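import Groth.Agent.L29.DCoh.QRlim
import Groth.Agent.L10.RlimVia
import Groth.Agent.L17.TowerCohMod
import Groth.Agent.L16.AffineBC.Pullback
import Groth.Agent.L10.Rlim.Single

/-!
# The derived limit of a quasi-coherent system with surjective transition maps

The limit placed in degree zero is the derived limit, tested on the free modules on affine opens.
-/

set_option autoImplicit false
set_option linter.style.haveILetI false
set_option linter.unusedSectionVars false
set_option backward.defeqAttrib.useBackward true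
set_option backward.isDefEq.respectTransparency false
set_option backward.isDefEq.respectTransparency.types false

universe u

open CategoryTheory CategoryTheory.Limits AlgebraicGeometry Opposite CategoryTheory.Pretriangulated
  Groth.L10 Groth.L29.DC.QRlim

noncomputable section

attribute [local instance] HasDerivedCategory.standard

namespace Groth.L04.QCohLim

variable {X : Scheme.{u}}

/-- A module in degree zero. -/
abbrev S0F (X : Scheme.{u}) : X.Modules ⥤ DCoh.D X := DerivedCategory.singleFunctor X.Modules 0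

local notation "S₀" => S0F X

theorem hom_free_shift_eq_zero {M : X.Modules} (hM : Coh.IsQCoh M) {W : X.Opens} (hW : IsAffineOpen W) {m : ℤ}
    (hm : m ≠ 0) (g : (S₀).obj (free X W) ⟶ ((S₀).obj M)⟦m⟧) : g = 0 := by
  rcases lt_or_gt_of_ne hm with h | h
  · haveI := DerivedCategory.TStructure.t.isGE_shift ((S₀).obj M) 0 m (-m) (by lia)
    exact DerivedCategory.TStructure.t.zero g 0 (-m) (by lia)
  · exact small_free hM hW m h g

variable (F : ℕ → X.Modules) (hF : ∀ n, Coh.IsQCoh (F n)) (t : ∀ n, F (n + 1) ⟶ F n)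
  (ht : ∀ n, 1 ≤ n → Epi (t n))

include hF ht in
theorem exists_hom_lift {W : X.Opens} (hW : IsAffineOpen W) (n : ℕ) (hn : 1 ≤ n) (b : free X W ⟶ F n) :
    ∃ c : free X W ⟶ F (n + 1), c ≫ t n = b := by
  haveI := ht n hn
  haveI := hF n
  haveI := hF (n + 1)
  obtain ⟨x, hx⟩ := Groth.L16.AffineBC.surjective_app_of_epi (t n) hW (SiteCover.sec X.sheaf W (F n) b)
  refine ⟨(SiteCover.sec X.sheaf W (F (n + 1))).symm x, (SiteCover.sec X.sheaf W (F n)).injective ?_⟩
  rw [SiteCover.sec_comp, Equiv.apply_symm_apply]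
  exact hx

include hF ht in
/-- The groups of morphisms out of free modules on affines have no `lim¹`. -/
theorem limOne_hom {W : X.Opens} (hW : IsAffineOpen W) (m : ℤ) :
    CohCx.LimOneIsZero (fun n => (S₀).obj (free X W) ⟶ ((S₀).obj (F n))⟦m⟧)
      (fun n => Preadditive.rightComp _ (((S₀).map (t n))⟦m⟧')) := by
  intro x
  rcases eq_or_ne m 0 with rfl | hm
  · let z := fun M : X.Modules => (shiftFunctorZero (DerivedCategory X.Modules) ℤ).app ((S₀).obj M)
    have hl : ∀ n, 1 ≤ n → ∀ b : (S₀).obj (free X W) ⟶ ((S₀).obj (F n))⟦(0 : ℤ)⟧,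
        ∃ c, c ≫ ((S₀).map (t n))⟦(0 : ℤ)⟧' = b := fun n hn b => by
      obtain ⟨b', hb'⟩ := (S₀).map_surjective (b ≫ (z (F n)).hom)
      obtain ⟨c, rfl⟩ := exists_hom_lift F hF t ht hW n hn b'
      refine ⟨(S₀).map c ≫ (z _).inv, (cancel_mono (z (F n)).hom).1 ?_⟩
      rw [← hb', Category.assoc, Category.assoc, Functor.map_comp]
      erw [(shiftFunctorZero (DerivedCategory X.Modules) ℤ).hom.naturality ((S₀).map (t n))]
      simp [z]
    choose lift hlift using hl
    let a : ∀ n, (S₀).obj (free X W) ⟶ ((S₀).obj (F (n + 1)))⟦(0 : ℤ)⟧ := fun n =>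
      Nat.rec (motive := fun n => (S₀).obj (free X W) ⟶ ((S₀).obj (F (n + 1)))⟦(0 : ℤ)⟧) 0
        (fun n c => lift (n + 1) (Nat.le_add_left 1 n) (c - x (n + 1))) n
    let b : ∀ n, (S₀).obj (free X W) ⟶ ((S₀).obj (F n))⟦(0 : ℤ)⟧ := fun n => match n with
      | 0 => x 0 + a 0 ≫ ((S₀).map (t 0))⟦(0 : ℤ)⟧'
      | n + 1 => a n
    refine ⟨b, funext fun n => ?_⟩
    cases n with
    | zero => exact add_sub_cancel_right _ _
    | succ n =>
      show a n - lift (n + 1) _ (a n - x (n + 1)) ≫ _ = x (n + 1)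
      rw [hlift, sub_sub_cancel]
  · haveI : ∀ n, Subsingleton ((S₀).obj (free X W) ⟶ ((S₀).obj (F n))⟦m⟧) := fun n =>
      subsingleton_of_forall_eq 0 (hom_free_shift_eq_zero (hF n) hW hm)
    exact ⟨0, funext fun n => Subsingleton.elim _ _⟩

variable [HasProduct fun n : ℕ => DCoh.inD X (F n)]

include hF ht in
/-- The limit is the derived limit. -/
theorem isRlim_limit :
    DCoh.IsRlim (fun n => DCoh.inD X (F n)) (fun n => (DerivedCategory.singleFunctor X.Modules 0).map (t n))
        (DCoh.inD X (limit (Functor.ofOpSequence t))) := by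
  haveI := enoughKInj X
  let K := fun n => (S₀).obj (F n)
  let Δ : ∏ᶜ K ⟶ ∏ᶜ K := Pi.lift fun n => Pi.π K n - Pi.π K (n + 1) ≫ (S₀).map (t n)
  obtain ⟨L, f, g, hT⟩ := distinguished_cocone_triangle₁ Δ
  let a : ∀ n, L ⟶ K n := fun n => f ≫ Pi.π K n
  have hL : CohCx.IsRlimVia K (fun n => (S₀).map (t n)) L a := ⟨g, by
    rwa [show Pi.lift a = f from Pi.hom_ext _ _ fun n => by simp [a]]⟩
  have hzero : ∀ (q : ℤ) (Q : X.Modules), (∃ W : X.Opens, IsAffineOpen W ∧ Q = free X W) → q ≠ 0 →
      ∀ y : (S₀).obj Q ⟶ L⟦q⟧, y = 0 := by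
    rintro q _ ⟨W, hW, rfl⟩ hq y
    exact (RlimVia.exists_lift_and_unique K _ L a hL _ q).2 (limOne_hom F hF t ht hW (q - 1)) y fun n =>
      hom_free_shift_eq_zero (hF n) hW hq _
  have hz : ∀ q : ℤ, q ≠ 0 → IsZero ((DerivedCategory.homologyFunctor X.Modules q).obj L) := fun q hq => by
    refine IsZero.of_iso ?_ (hShiftIso L q 0 q (by omega)).symm
    rw [IsZero.iff_id_eq_zero]
    refine (cover X).sep _ fun i y => ?_
    rw [Category.comp_id]
    obtain ⟨T, p, hp, ξ, hξ⟩ := LocalDetect.exists_lift y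
    refine (cover X).cov i p y fun Q r hQ => ?_
    have h := hzero q Q (by obtain ⟨W, hW, rfl⟩ := hQ; exact ⟨W, hW, rfl⟩) hq ((S₀).map r ≫ ξ)
    rw [← hξ, ← LocalDetect.cls_map, h, LocalDetect.cls_zero]
  have : L.IsGE 0 := (DerivedCategory.isGE_iff L 0).2 fun i hi => hz i (by omega)
  have : L.IsLE 0 := (DerivedCategory.isLE_iff L 0).2 fun i hi => hz i (by omega)
  obtain ⟨eL⟩ := exists_iso_single_H L 0
  let N := (DerivedCategory.homologyFunctor X.Modules 0).obj L
  have hφ : ∀ n, ∃ φ : N ⟶ F n, (S₀).map φ = eL.inv ≫ a n := fun n => (S₀).map_surjective _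
  choose φ hφ using hφ
  have hw : ∀ n, φ (n + 1) ≫ t n = φ n := fun n => (S₀).map_injective (by
    rw [Functor.map_comp, hφ, hφ, Category.assoc, TowerStab.rlim_w hL n])
  let cone : Cone (Functor.ofOpSequence t) :=
    { pt := N
      π := NatTrans.ofOpSequence φ fun n => by
        simp only [Functor.ofOpSequence_map_homOfLE_succ]
        exact ((hw n).trans (Category.id_comp _).symm).symm }
  let m : N ⟶ limit (Functor.ofOpSequence t) := limit.lift _ cone
  have hm : ∀ n, m ≫ limit.π (Functor.ofOpSequence t) (op n) = φ n := fun n => limit.lift_π cone (op n)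
  let z := fun G : DerivedCategory X.Modules => (shiftFunctorZero (DerivedCategory X.Modules) ℤ).app G
  have huniq : ∀ (W : X.Opens), IsAffineOpen W → ∀ y : (S₀).obj (free X W) ⟶ L, (∀ n, y ≫ a n = 0) → y = 0 :=
    fun W hW y hy => by
      rw [← cancel_mono (z L).inv, zero_comp]
      refine (RlimVia.exists_lift_and_unique K _ L a hL _ 0).2 (limOne_hom F hF t ht hW (0 - 1)) _ fun n => ?_
      rw [Category.assoc]
      erw [← (shiftFunctorZero (DerivedCategory X.Modules) ℤ).inv.naturality (a n)]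
      exact (Category.assoc _ _ _).symm.trans ((congrArg (· ≫ _) (hy n)).trans zero_comp)
  haveI : Mono m := Preadditive.mono_of_cancel_zero _ fun {M} k hk => (cover X).sep k fun i y => by
    obtain ⟨W, hW⟩ := i
    refine (S₀).map_injective ((cancel_mono eL.inv).1 ((huniq W hW _ fun n => ?_).trans ?_))
    · rw [Category.assoc, ← hφ, ← Functor.map_comp, ← hm, Category.assoc, reassoc_of% hk, zero_comp, comp_zero,
        Functor.map_zero]
    · rw [Functor.map_zero, zero_comp]
  haveI : Epi m := Preadditive.epi_of_cancel_zero _ fun {M} k hk => (cover X).sep k fun i y => by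
    obtain ⟨W, hW⟩ := i
    obtain ⟨v, hv⟩ := (RlimVia.exists_lift_and_unique K _ L a hL _ 0).1
      (fun n => (S₀).map (y ≫ limit.π (Functor.ofOpSequence t) (op n)) ≫ (z (K n)).inv) fun n => by
        rw [Category.assoc]
        erw [← (shiftFunctorZero (DerivedCategory X.Modules) ℤ).inv.naturality ((S₀).map (t n))]
        rw [← Category.assoc]
        change ((S₀).map _ ≫ (S₀).map (t n)) ≫ _ = _
        rw [← Functor.map_comp, Category.assoc]
        refine congrArg (fun s => (S₀).map (y ≫ s) ≫ _) ?_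
        have h := limit.w (Functor.ofOpSequence t) (homOfLE (Nat.le_add_right n 1)).op
        rwa [Functor.ofOpSequence_map_homOfLE_succ] at h
    obtain ⟨x, hx⟩ := (S₀).map_surjective (v ≫ (z L).hom ≫ eL.hom)
    have hxm : x ≫ m = y := limit.hom_ext fun j => (S₀).map_injective (by
      obtain ⟨n⟩ := j
      rw [Category.assoc, hm, Functor.map_comp, hx, hφ, Category.assoc, Category.assoc, eL.hom_inv_id_assoc]
      erw [← (shiftFunctorZero (DerivedCategory X.Modules) ℤ).hom.naturality (a n)]
      rw [← Category.assoc, hv n, Category.assoc]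
      exact ((congrArg ((S₀).map _ ≫ ·) (z (K n)).inv_hom_id).trans (Category.comp_id _)))
    rw [← hxm, Category.assoc, hk, comp_zero]
  haveI : IsIso m := isIso_of_mono_of_epi m
  let e : L ≅ (S₀).obj (limit (Functor.ofOpSequence t)) := eL ≪≫ (S₀).mapIso (asIso m)
  exact ⟨e.inv ≫ f, g ≫ e.hom⟦(1 : ℤ)⟧', isomorphic_distinguished _ hT _ (Triangle.isoMk _ _ e.symm (Iso.refl _)
    (Iso.refl _) (by simp) ((Category.comp_id _).trans (Category.id_comp _).symm) (by
      change (g ≫ e.hom⟦(1 : ℤ)⟧') ≫ e.inv⟦(1 : ℤ)⟧' = 𝟙 _ ≫ g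
      rw [Category.assoc, ← Functor.map_comp, e.hom_inv_id, CategoryTheory.Functor.map_id, Category.comp_id,
        Category.id_comp]))⟩

/-- Dropping the first term does not change the limit. -/
theorem nonempty_limit_shift :
    Nonempty (limit (Functor.ofOpSequence (X := fun n => F (n + 1)) fun n => t (n + 1)) ≅ limit (Functor.ofOpSequence t)) := by
  let H := Functor.ofOpSequence t
  let H' := Functor.ofOpSequence (X := fun n => F (n + 1)) fun n => t (n + 1)
  have hw : ∀ n, limit.π H (op (n + 1)) ≫ t n = limit.π H (op n) := fun n => by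
    have h := limit.w H (homOfLE (Nat.le_add_right n 1)).op
    rwa [Functor.ofOpSequence_map_homOfLE_succ] at h
  have hw' : ∀ n, limit.π H' (op (n + 1)) ≫ t (n + 1) = limit.π H' (op n) := fun n => by
    have h := limit.w H' (homOfLE (Nat.le_add_right n 1)).op
    rwa [Functor.ofOpSequence_map_homOfLE_succ] at h
  let φ : limit H ⟶ limit H' := limit.lift H' ⟨limit H, NatTrans.ofOpSequence (fun n => limit.π H (op (n + 1)))
    fun n => by
      simp only [H', Functor.ofOpSequence_map_homOfLE_succ]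
      exact ((hw (n + 1)).trans (Category.id_comp _).symm).symm⟩
  let p : ∀ n, limit H' ⟶ F n := fun n => match n with
    | 0 => limit.π H' (op 0) ≫ t 0
    | n + 1 => limit.π H' (op n)
  have hp : ∀ n, p (n + 1) ≫ t n = p n := fun n => by
    cases n with
    | zero => rfl
    | succ n => exact hw' n
  let ψ : limit H' ⟶ limit H := limit.lift H ⟨limit H', NatTrans.ofOpSequence p fun n => by
      simp only [H, Functor.ofOpSequence_map_homOfLE_succ]
      exact ((hp n).trans (Category.id_comp _).symm).symm⟩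
  have e1 : ∀ n, φ ≫ limit.π H' (op n) = limit.π H (op (n + 1)) := fun n => limit.lift_π _ _
  have e2 : ∀ n, ψ ≫ limit.π H (op n) = p n := fun n => limit.lift_π _ _
  refine ⟨⟨ψ, φ, limit.hom_ext fun j => ?_, limit.hom_ext fun j => ?_⟩⟩
  · obtain ⟨n⟩ := j
    rw [Category.assoc, e1, e2, Category.id_comp]
  · obtain ⟨n⟩ := j
    rw [Category.assoc, e2, Category.id_comp]
    cases n with
    | zero => exact (Category.assoc _ _ _).symm.trans ((congrArg (· ≫ t 0) (e1 0)).trans (hw 0))
    | succ n => exact e1 n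

include hF ht in
/-- The limit has no higher cohomology on affine opens. -/
theorem subsingleton_HHon {U : X.Opens} (hU : IsAffineOpen U) (p : ℕ) (hp : 0 < p) :
    Subsingleton (Coh.HHon X (limit (Functor.ofOpSequence t)) U p) := by
  obtain ⟨q, rfl⟩ : ∃ q, p = q + 1 := ⟨p - 1, by omega⟩
  obtain ⟨e⟩ := nonempty_limit_shift F t
  have h := Groth.L17.TowerCohMod.subsingleton_HHon_limit (Functor.ofOpSequence (X := fun n => F (n + 1)) fun n => t (n + 1))
    (fun n => hF (n + 1)) (fun n => by
      rw [Functor.ofOpSequence_map_homOfLE_succ]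
      exact ht (n + 1) (Nat.le_add_left 1 n)) hU q
  obtain ⟨e₁⟩ := Groth.L17.nonempty_hhon_equiv (limit (Functor.ofOpSequence (X := fun n => F (n + 1)) fun n => t (n + 1))) U (q + 1)
  obtain ⟨e₂⟩ := Groth.L17.nonempty_hhon_equiv (limit (Functor.ofOpSequence t)) U (q + 1)
  haveI := @Equiv.subsingleton _ _ e₁.toEquiv.symm h
  haveI := Groth.L10.Rlim.subsingleton_ext_of_iso (Q := Groth.L17.zFree (X := X.toTopCat) U)
    ((SheafOfModules.toSheaf X.ringCatSheaf).mapIso e).symm (q + 1)
  exact e₂.toEquiv.subsingleton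

end Groth.L04.QCohLim
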